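import Mathlib

/-!
Subnormal chains and composition length of finite groups, via chain lengths.
-/

set_option autoImplicit false
set_option linter.unusedSimpArgs false
set_option linter.unusedVariables false
set_option linter.unusedSectionVars false

namespace Cfsg.Agent.Lib.ClassMax.CompLen

open ArithmeticFunction

local notation "Ω" => ArithmeticFunction.cardFactors

section chain

variable {G : Type*} [Group G]

/-- `K` is normalised by `K'`. -/
def Nor (K K' : Subgroup G) : Prop := ∀ x ∈ K', ∀ y ∈ K, x * y * x⁻¹ ∈ K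

/-- Strictly increasing subnormal chains from `A`. -/
inductive SCh (A : Subgroup G) : Subgroup G → ℕ → Prop
  | refl : SCh A A 0
  | step {K K' : Subgroup G} {l : ℕ} : SCh A K l → K < K' → Nor K K' → SCh A K' (l + 1)

theorem SCh.le {A B : Subgroup G} {l : ℕ} (h : SCh A B l) : A ≤ B := by
  induction h with
  | refl => exact le_rfl
  | step _ hlt _ ih => exact ih.trans hlt.le

theorem SCh.trans {A B C : Subgroup G} {a b : ℕ} (h1 : SCh A B a) (h2 : SCh B C b) : SCh A C (a + b) := by
  induction h2 with
  | refl => exact h1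
  | step _ hlt hn ih => exact SCh.step ih hlt hn

/-- An atom of a chain from normal subgroups. -/
theorem SCh.of_nor {K K' : Subgroup G} (hlt : K < K') (hn : Nor K K') : SCh K K' 1 :=
  SCh.step SCh.refl hlt hn

theorem nor_of_normal {K K' : Subgroup G} (hK : K.Normal) : Nor K K' := fun x _ y hy => hK.conj_mem y hy x

theorem SCh.map {Q : Type*} [Group Q] (f : G →* Q) (hf : Function.Injective f) {A B : Subgroup G} {l : ℕ} (h : SCh A B l) :
    SCh (A.map f) (B.map f) l := by
  induction h with
  | refl => exact SCh.refl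
  | step _ hlt hn ih =>
    refine SCh.step ih ?_ ?_
    · exact (Subgroup.map_lt_map_iff_of_injective hf).2 hlt
    · rintro _ ⟨x, hx, rfl⟩ _ ⟨y, hy, rfl⟩
      exact ⟨x * y * x⁻¹, hn x hx y hy, by simp⟩

theorem SCh.comap {Q : Type*} [Group Q] (f : Q →* G) (hf : Function.Surjective f) {A B : Subgroup G} {l : ℕ} (h : SCh A B l) :
    SCh (A.comap f) (B.comap f) l := by
  induction h with
  | refl => exact SCh.refl
  | step _ hlt hn ih =>
    refine SCh.step ih ?_ ?_
    · refine lt_of_le_of_ne (Subgroup.comap_mono hlt.le) ?_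
      intro heq
      apply hlt.ne
      have h1 := congrArg (Subgroup.map f) heq
      rwa [Subgroup.map_comap_eq_self_of_surjective hf, Subgroup.map_comap_eq_self_of_surjective hf] at h1
    · intro x hx y hy
      rw [Subgroup.mem_comap] at hx hy ⊢
      rw [map_mul, map_mul, map_inv]
      exact hn _ hx _ hy

theorem omega_mono {a b : ℕ} (hb : b ≠ 0) (h : a ∣ b) : Ω a ≤ Ω b := by
  obtain ⟨c, rfl⟩ := h
  have ha : a ≠ 0 := left_ne_zero_of_mul hb
  have hc : c ≠ 0 := right_ne_zero_of_mul hb
  rw [cardFactors_mul ha hc]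
  omega

theorem SCh.omega [Finite G] {A B : Subgroup G} {l : ℕ} (h : SCh A B l) : Ω (Nat.card A) + l ≤ Ω (Nat.card B) := by
  induction h with
  | refl => exact le_rfl
  | @step K K' l _ hlt hn ih =>
    obtain ⟨m, hm⟩ := Subgroup.card_dvd_of_le hlt.le
    have hK : Nat.card K ≠ 0 := Nat.card_pos.ne'
    have hK' : Nat.card K' ≠ 0 := Nat.card_pos.ne'
    have hm0 : m ≠ 0 := by
      intro h0
      rw [h0, mul_zero] at hm
      exact hK' hm
    have hm1 : m ≠ 1 := by
      intro h1
      rw [h1, mul_one] at hm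
      exact hlt.ne (Subgroup.eq_of_le_of_card_ge hlt.le hm.le)
    have h1 : 1 ≤ Ω m := by
      have := (cardFactors_pos_iff_one_lt (n := m)).2 (by omega)
      omega
    rw [hm, cardFactors_mul hK hm0]
    omega

end chain

section cl

variable {G : Type*} [Group G]

/-- Composition length (longest subnormal chain). -/
noncomputable def cl (G : Type*) [Group G] : ℕ := sSup {l | SCh (⊥ : Subgroup G) ⊤ l}

theorem exists_chain (G : Type*) [Group G] : ∃ l, SCh (⊥ : Subgroup G) ⊤ l := by
  by_cases h : (⊥ : Subgroup G) = ⊤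
  · refine ⟨0, ?_⟩
    rw [← h]
    exact SCh.refl
  · exact ⟨1, SCh.of_nor (lt_of_le_of_ne bot_le h) (nor_of_normal inferInstance)⟩

theorem chain_bdd [Finite G] : BddAbove {l | SCh (⊥ : Subgroup G) ⊤ l} := by
  refine ⟨Ω (Nat.card G), ?_⟩
  intro l hl
  have h := SCh.omega hl
  rw [Subgroup.card_top] at h
  omega

theorem le_cl [Finite G] {l : ℕ} (h : SCh (⊥ : Subgroup G) ⊤ l) : l ≤ cl G := le_csSup chain_bdd h

theorem cl_chain [Finite G] : SCh (⊥ : Subgroup G) ⊤ (cl G) := Nat.sSup_mem (exists_chain G) chain_bdd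

theorem cl_le_omega [Finite G] : cl G ≤ Ω (Nat.card G) := by
  have h := SCh.omega (cl_chain (G := G))
  rw [Subgroup.card_top] at h
  omega

theorem cl_le [Finite G] {b : ℕ} (h : ∀ l, SCh (⊥ : Subgroup G) ⊤ l → l ≤ b) : cl G ≤ b := h _ cl_chain

theorem cl_eq_zero_of_subsingleton [Finite G] [Subsingleton G] : cl G = 0 := by
  have h := cl_le_omega (G := G)
  rw [Nat.card_unique, cardFactors_one] at h
  omega

theorem cl_mono_of_injective_surjective {Q : Type*} [Group Q] [Finite G] [Finite Q] (e : G ≃* Q) : cl G ≤ cl Q := by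
  have h := SCh.map e.toMonoidHom e.injective (cl_chain (G := G))
  rw [Subgroup.map_bot, (Subgroup.map_top_of_surjective _ e.surjective)] at h
  exact le_cl h

theorem cl_congr {Q : Type*} [Group Q] [Finite G] [Finite Q] (e : G ≃* Q) : cl G = cl Q :=
  le_antisymm (cl_mono_of_injective_surjective e) (cl_mono_of_injective_surjective e.symm)

theorem SCh.weak {A K K' : Subgroup G} {l : ℕ} (h : SCh A K l) (hle : K ≤ K') (hn : Nor K K') :
    (K = K' ∧ SCh A K' l) ∨ (K ≠ K' ∧ SCh A K' (l + 1)) := by
  by_cases he : K = K'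
  · subst he
    exact Or.inl ⟨rfl, h⟩
  · exact Or.inr ⟨he, SCh.step h (lt_of_le_of_ne hle he) hn⟩

/-- Splitting a chain along a surjective homomorphism. -/
theorem chain_split {Q : Type*} [Group Q] (f : G →* Q) {K : Subgroup G} {l : ℕ} (h : SCh ⊥ K l) :
    ∃ a b, l ≤ a + b ∧ SCh (⊥ : Subgroup f.ker) (K.subgroupOf f.ker) a ∧ SCh (⊥ : Subgroup Q) (K.map f) b := by
  induction h with
  | refl =>
    refine ⟨0, 0, le_rfl, ?_, ?_⟩
    · rw [Subgroup.bot_subgroupOf]
      exact SCh.refl
    · rw [Subgroup.map_bot]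
      exact SCh.refl
  | @step K K' l _ hlt hn ih =>
    obtain ⟨a, b, hab, h1, h2⟩ := ih
    have hn1 : Nor (K.subgroupOf f.ker) (K'.subgroupOf f.ker) := by
      intro x hx y hy
      rw [Subgroup.mem_subgroupOf] at hx hy ⊢
      exact hn _ hx _ hy
    have hn2 : Nor (K.map f) (K'.map f) := by
      rintro _ ⟨x, hx, rfl⟩ _ ⟨y, hy, rfl⟩
      exact ⟨x * y * x⁻¹, hn x hx y hy, by simp⟩
    have hle1 : K.subgroupOf f.ker ≤ K'.subgroupOf f.ker := fun x hx => hlt.le hx
    have hle2 : K.map f ≤ K'.map f := Subgroup.map_mono hlt.le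
    rcases SCh.weak h1 hle1 hn1 with ⟨e1, c1⟩ | ⟨e1, c1⟩ <;> rcases SCh.weak h2 hle2 hn2 with ⟨e2, c2⟩ | ⟨e2, c2⟩
    · exfalso
      apply hlt.ne
      apply le_antisymm hlt.le
      intro x hx
      have h3 : f x ∈ K.map f := by
        rw [e2]
        exact ⟨x, hx, rfl⟩
      obtain ⟨y, hy, hyx⟩ := h3
      have h4 : y⁻¹ * x ∈ f.ker := by
        rw [MonoidHom.mem_ker, map_mul, map_inv, hyx, inv_mul_cancel]
      have h5 : (⟨y⁻¹ * x, h4⟩ : f.ker) ∈ K'.subgroupOf f.ker := by
        rw [Subgroup.mem_subgroupOf]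
        exact K'.mul_mem (K'.inv_mem (hlt.le hy)) hx
      rw [← e1, Subgroup.mem_subgroupOf] at h5
      have h6 : x = y * (y⁻¹ * x) := by group
      rw [h6]
      exact K.mul_mem hy h5
    · exact ⟨a, b + 1, by omega, c1, c2⟩
    · exact ⟨a + 1, b, by omega, c1, c2⟩
    · exact ⟨a + 1, b + 1, by omega, c1, c2⟩

/-- Composition length along a surjective homomorphism, upper bound. -/
theorem cl_le_ker_add {Q : Type*} [Group Q] [Finite G] [Finite Q] (f : G →* Q) (hf : Function.Surjective f) :
    cl G ≤ cl f.ker + cl Q := by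
  apply cl_le
  intro l hl
  obtain ⟨a, b, hab, h1, h2⟩ := chain_split f hl
  rw [Subgroup.top_subgroupOf] at h1
  rw [Subgroup.map_top_of_surjective _ hf] at h2
  have h3 := le_cl h1
  have h4 := le_cl h2
  omega

/-- Composition length along a surjective homomorphism, lower bound. -/
theorem ker_add_le_cl {Q : Type*} [Group Q] [Finite G] [Finite Q] (f : G →* Q) (hf : Function.Surjective f) :
    cl f.ker + cl Q ≤ cl G := by
  have h1 := SCh.map f.ker.subtype f.ker.subtype_injective (cl_chain (G := f.ker))
  rw [Subgroup.map_bot, ← MonoidHom.range_eq_map, Subgroup.range_subtype] at h1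
  have h2 := SCh.comap f hf (cl_chain (G := Q))
  rw [Subgroup.comap_top] at h2
  have h3 : (⊥ : Subgroup Q).comap f = f.ker := rfl
  rw [h3] at h2
  exact le_cl (h1.trans h2)

/-- Simple groups have length one. -/
theorem cl_simple [Finite G] (hG : IsSimpleGroup G) : cl G ≤ 1 := by
  apply cl_le
  intro l hl
  have key : ∀ (B : Subgroup G) (l : ℕ), SCh ⊥ B l → B = ⊤ → l ≤ 1 := by
    intro B l h hB
    cases h with
    | refl => omega
    | @step K K' l₀ h1 hlt hn =>
      subst hB
      have hKn : K.Normal := ⟨fun y hy x => hn x (Subgroup.mem_top x) y hy⟩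
      rcases hG.eq_bot_or_eq_top_of_normal K hKn with rfl | rfl
      · have : l₀ = 0 := by
          cases h1 with
          | refl => rfl
          | step h2 hlt2 _ =>
            exact absurd hlt2 (by
              intro h3
              exact (not_lt_of_ge bot_le) h3)
        omega
      · exact absurd hlt (lt_irrefl _)
  exact key _ _ hl rfl

/-- Powers of a simple group. -/
theorem cl_pi_le {T : Type*} [Group T] [Finite T] (hT : IsSimpleGroup T) (k : ℕ) : cl (Fin k → T) ≤ k := by
  induction k with
  | zero =>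
    rw [cl_eq_zero_of_subsingleton]
  | succ k ih =>
    let f : (Fin (k + 1) → T) →* T := Pi.evalMonoidHom _ 0
    have hf : Function.Surjective f := fun x => ⟨fun _ => x, rfl⟩
    have h1 := cl_le_ker_add f hf
    have h2 := cl_simple hT
    let e : (Fin k → T) →* f.ker :=
      { toFun := fun y => ⟨Fin.cons 1 y, by
          rw [MonoidHom.mem_ker]
          rfl⟩
        map_one' := by
          apply Subtype.ext
          funext i
          refine Fin.cases ?_ (fun j => ?_) i <;> simp
        map_mul' := by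
          intro x y
          apply Subtype.ext
          funext i
          refine Fin.cases ?_ (fun j => ?_) i <;> simp }
    have he : Function.Bijective e := by
      constructor
      · intro x y hxy
        funext i
        have := congrFun (congrArg Subtype.val hxy) i.succ
        simpa [e] using this
      · rintro ⟨x, hx⟩
        refine ⟨fun i => x i.succ, ?_⟩
        apply Subtype.ext
        funext i
        refine Fin.cases ?_ (fun j => ?_) i
        · have : x 0 = 1 := hx
          simp [e, this]
        · simp [e]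
    have h3 := cl_congr (MulEquiv.ofBijective e he)
    omega

end cl

end Cfsg.Agent.Lib.ClassMax.CompLen
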