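import Mathlib
import Cfsg.Agent.Lib.ClassMax.CompLen

/-!
Subgroups of powers of a non-abelian simple group: a point far from the subgroup in the Hamming metric,
and automorphisms of such powers.
-/

set_option autoImplicit false
set_option linter.unusedSimpArgs false
set_option linter.unusedVariables false
set_option linter.unusedSectionVars false

namespace Cfsg.Agent.Lib.ClassMax.CompLen

section simple

variable {X T : Type*} [Group X] [Group T]

/-- The two normal subgroups case of primeness of kernels onto a non-abelian simple group. -/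
theorem le_ker_of_inf_le (hT : IsSimpleGroup T) (hnc : ¬ ∀ a b : T, a * b = b * a) (f : X →* T) (hf : Function.Surjective f)
    {A B : Subgroup X} (hA : A.Normal) (hB : B.Normal) (h : A ⊓ B ≤ f.ker) : A ≤ f.ker ∨ B ≤ f.ker := by
  by_contra hcon
  push Not at hcon
  obtain ⟨h1, h2⟩ := hcon
  have hAt : A.map f = ⊤ := by
    rcases hT.eq_bot_or_eq_top_of_normal (A.map f) (hA.map f hf) with h3 | h3
    · exfalso
      apply h1
      intro a ha
      have : f a ∈ A.map f := ⟨a, ha, rfl⟩
      rw [h3, Subgroup.mem_bot] at this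
      exact this
    · exact h3
  have hBt : B.map f = ⊤ := by
    rcases hT.eq_bot_or_eq_top_of_normal (B.map f) (hB.map f hf) with h3 | h3
    · exfalso
      apply h2
      intro a ha
      have : f a ∈ B.map f := ⟨a, ha, rfl⟩
      rw [h3, Subgroup.mem_bot] at this
      exact this
    · exact h3
  apply hnc
  intro u v
  have hu : u ∈ A.map f := by
    rw [hAt]
    trivial
  have hv : v ∈ B.map f := by
    rw [hBt]
    trivial
  obtain ⟨a, ha, rfl⟩ := hu
  obtain ⟨b, hb, rfl⟩ := hv
  have h3 : a * b * a⁻¹ * b⁻¹ ∈ A ⊓ B := by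
    constructor
    · have h2 : a * b * a⁻¹ * b⁻¹ = a * (b * a⁻¹ * b⁻¹) := by group
      change a * b * a⁻¹ * b⁻¹ ∈ A
      rw [h2]
      exact A.mul_mem ha (hA.conj_mem _ (A.inv_mem ha) b)
    · exact B.mul_mem (hB.conj_mem b hb a) (B.inv_mem hb)
  have h4 := h h3
  rw [MonoidHom.mem_ker, map_mul, map_mul, map_mul, map_inv, map_inv] at h4
  have h5 : f a * f b * (f a)⁻¹ = f b := mul_inv_eq_one.mp h4
  rwa [mul_inv_eq_iff_eq_mul] at h5

open Classical in
/-- A finite intersection of normal subgroups in a kernel. -/
theorem exists_le_ker_of_inf_le (hT : IsSimpleGroup T) (hnc : ¬ ∀ a b : T, a * b = b * a) (f : X →* T) (hf : Function.Surjective f)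
    (S : Finset (Subgroup X)) (hS : ∀ K ∈ S, K.Normal) (h : S.inf id ≤ f.ker) : ∃ K ∈ S, K ≤ f.ker := by
  induction S using Finset.induction_on with
  | empty =>
    exfalso
    apply hnc
    intro a b
    have h1 : ∀ c : T, c = 1 := by
      intro c
      obtain ⟨x, rfl⟩ := hf c
      exact h (by simp)
    rw [h1 a, h1 b]
  | insert K₀ S hK₀ ih =>
    rw [Finset.inf_insert] at h
    have hn : (S.inf id).Normal := by
      have : ∀ (S' : Finset (Subgroup X)), (∀ K ∈ S', K.Normal) → (S'.inf id).Normal := by
        intro S'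
        induction S' using Finset.induction_on with
        | empty =>
          intro _
          rw [Finset.inf_empty]
          exact inferInstance
        | insert a s _ ih2 =>
          intro h3
          rw [Finset.inf_insert]
          haveI := h3 a (Finset.mem_insert_self _ _)
          haveI := ih2 (fun K hK => h3 K (Finset.mem_insert_of_mem hK))
          simp only [id]
          exact Subgroup.normal_inf_normal _ _
      exact this S (fun K hK => hS K (Finset.mem_insert_of_mem hK))
    rcases le_ker_of_inf_le hT hnc f hf (hS K₀ (Finset.mem_insert_self _ _)) hn h with h1 | h1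
    · exact ⟨K₀, Finset.mem_insert_self _ _, h1⟩
    · obtain ⟨K, hK, h2⟩ := ih (fun K hK => hS K (Finset.mem_insert_of_mem hK)) h1
      exact ⟨K, Finset.mem_insert_of_mem hK, h2⟩

/-- Two kernels onto a simple group, one inside the other. -/
theorem ker_eq_of_le (hT : IsSimpleGroup T) (f g : X →* T) (hf : Function.Surjective f) (hg : Function.Surjective g)
    (h : g.ker ≤ f.ker) : g.ker = f.ker := by
  apply le_antisymm h
  rcases hT.eq_bot_or_eq_top_of_normal (f.ker.map g) ((MonoidHom.normal_ker f).map g hg) with h3 | h3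
  · intro a ha
    have : g a ∈ f.ker.map g := ⟨a, ha, rfl⟩
    rw [h3, Subgroup.mem_bot] at this
    exact this
  · exfalso
    haveI := hT.toNontrivial
    obtain ⟨c, hc⟩ := exists_ne (1 : T)
    obtain ⟨x, rfl⟩ := hf c
    apply hc
    have h4 : g x ∈ f.ker.map g := by
      rw [h3]
      trivial
    obtain ⟨y, hy, hyx⟩ := h4
    have h5 : y⁻¹ * x ∈ g.ker := by
      rw [MonoidHom.mem_ker, map_mul, map_inv, hyx, inv_mul_cancel]
    have h6 := h h5
    rw [MonoidHom.mem_ker, map_mul, map_inv, (MonoidHom.mem_ker).1 hy, inv_one, one_mul] at h6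
    exact h6

open Classical in
/-- Distinct kernels onto a non-abelian simple group give a long chain. -/
theorem card_le_cl [Finite X] (hT : IsSimpleGroup T) (hnc : ¬ ∀ a b : T, a * b = b * a)
    (S : Finset (Subgroup X)) (hS : ∀ K ∈ S, ∃ f : X →* T, Function.Surjective f ∧ K = f.ker) : S.card ≤ cl X := by
  have hnorm : ∀ (S' : Finset (Subgroup X)), (∀ K ∈ S', K.Normal) → (S'.inf id).Normal := by
    intro S'
    induction S' using Finset.induction_on with
    | empty =>
      intro _
      rw [Finset.inf_empty]
      exact inferInstance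
    | insert a s _ ih2 =>
      intro h3
      rw [Finset.inf_insert]
      haveI := h3 a (Finset.mem_insert_self _ _)
      haveI := ih2 (fun K hK => h3 K (Finset.mem_insert_of_mem hK))
      simp only [id]
      exact Subgroup.normal_inf_normal _ _
  have key : ∀ S' : Finset (Subgroup X), (∀ K ∈ S', ∃ f : X →* T, Function.Surjective f ∧ K = f.ker) → SCh (S'.inf id) ⊤ S'.card := by
    intro S'
    induction S' using Finset.induction_on with
    | empty =>
      intro _
      rw [Finset.inf_empty, Finset.card_empty]
      exact SCh.refl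
    | insert K₀ s hK₀ ih =>
      intro h1
      have h2 := ih (fun K hK => h1 K (Finset.mem_insert_of_mem hK))
      rw [Finset.card_insert_of_notMem hK₀, Finset.inf_insert]
      obtain ⟨f, hf, rfl⟩ := h1 K₀ (Finset.mem_insert_self _ _)
      have hsN : ∀ K ∈ s, K.Normal := by
        intro K hK
        obtain ⟨g, _, rfl⟩ := h1 K (Finset.mem_insert_of_mem hK)
        exact g.normal_ker
      have hn := hnorm s hsN
      have hlt : (id f.ker) ⊓ s.inf id < s.inf id := by
        refine lt_of_le_of_ne inf_le_right ?_
        intro heq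
        have h3 : s.inf id ≤ f.ker := by
          rw [← heq]
          exact inf_le_left
        obtain ⟨K, hK, hle⟩ := exists_le_ker_of_inf_le hT hnc f hf s hsN h3
        obtain ⟨g, hg, rfl⟩ := h1 K (Finset.mem_insert_of_mem hK)
        have h4 := ker_eq_of_le hT f g hf hg hle
        apply hK₀
        rw [← h4]
        exact hK
      have hNor : Nor ((id f.ker) ⊓ s.inf id) (s.inf id) := by
        haveI : ((id f.ker) ⊓ s.inf id).Normal := by
          haveI := f.normal_ker
          simp only [id]
          exact Subgroup.normal_inf_normal _ _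
        exact nor_of_normal inferInstance
      have h5 := (SCh.of_nor hlt hNor).trans h2
      rw [add_comm] at h5
      exact h5
  have h1 := key S hS
  by_cases hbot : S.inf id = ⊥
  · rw [hbot] at h1
    exact le_cl h1
  · have hN : (S.inf id).Normal := hnorm S (fun K hK => by
      obtain ⟨f, _, rfl⟩ := hS K hK
      exact f.normal_ker)
    have h2 : SCh (⊥ : Subgroup X) (S.inf id) 1 := SCh.of_nor (lt_of_le_of_ne bot_le (Ne.symm hbot)) (nor_of_normal inferInstance)
    have h3 := le_cl (h2.trans h1)
    omega

end simple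

section balance

/-- A balanced four-colouring. -/
theorem exists_balanced {ι : Type*} [DecidableEq ι] (S : Finset ι) :
    ∃ f : ι → Fin 4, ∀ u : Fin 4, 4 * (S.filter (fun i => f i = u)).card ≤ S.card + 3 := by
  classical
  let e := S.equivFin
  let f : ι → Fin 4 := fun i => if h : i ∈ S then ⟨(e ⟨i, h⟩ : ℕ) % 4, Nat.mod_lt _ (by norm_num)⟩ else 0
  refine ⟨f, fun u => ?_⟩
  have h1 : (S.filter (fun i => f i = u)).card ≤ (Finset.range ((S.card + 3) / 4)).card := by
    apply Finset.card_le_card_of_injOn (fun i => if h : i ∈ S then (e ⟨i, h⟩ : ℕ) / 4 else 0)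
    · intro i hi
      have hi' := (Finset.mem_filter.mp (Finset.mem_coe.mp hi)).1
      simp only [hi', dif_pos, Finset.coe_range, Set.mem_Iio]
      have h2 : ((e ⟨i, hi'⟩ : Fin S.card) : ℕ) < S.card := (e ⟨i, hi'⟩).2
      omega
    · intro i hi j hj hij
      have hi' := Finset.mem_filter.mp (Finset.mem_coe.mp hi)
      have hj' := Finset.mem_filter.mp (Finset.mem_coe.mp hj)
      simp only [hi'.1, hj'.1, dif_pos] at hij
      have h3 : f i = u := hi'.2
      have h4 : f j = u := hj'.2
      have h5 : ((e ⟨i, hi'.1⟩ : Fin S.card) : ℕ) % 4 = u := by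
        have := congrArg Fin.val h3
        simpa [f, hi'.1] using this
      have h6 : ((e ⟨j, hj'.1⟩ : Fin S.card) : ℕ) % 4 = u := by
        have := congrArg Fin.val h4
        simpa [f, hj'.1] using this
      have h7 : ((e ⟨i, hi'.1⟩ : Fin S.card) : ℕ) = (e ⟨j, hj'.1⟩ : Fin S.card) := by omega
      have h8 := e.injective (Fin.ext h7)
      exact congrArg Subtype.val h8
  rw [Finset.card_range] at h1
  omega

end balance

section code

variable {T : Type*} [Group T] [Finite T] {k : ℕ}

/-- Four distinct elements in a non-abelian group. -/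
theorem exists_four (hnc : ¬ ∀ a b : T, a * b = b * a) : ∃ τ : Fin 4 → T, Function.Injective τ := by
  haveI := Fintype.ofFinite T
  have h4 : 4 ≤ Nat.card T := by
    by_contra hlt
    push Not at hlt
    apply hnc
    have hpos : 0 < Nat.card T := Nat.card_pos
    have hcase : Nat.card T = 1 ∨ Nat.card T = 2 ∨ Nat.card T = 3 := by omega
    rcases hcase with h | h | h
    · haveI : Subsingleton T := (Nat.card_eq_one_iff_unique.mp h).1
      intro a b
      exact Subsingleton.elim _ _
    · haveI : Fact (Nat.Prime (Nat.card T)) := ⟨by rw [h]; norm_num⟩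
      haveI := isCyclic_of_prime_card (α := T) rfl
      exact fun a b => mul_comm' a b
    · haveI : Fact (Nat.Prime (Nat.card T)) := ⟨by rw [h]; norm_num⟩
      haveI := isCyclic_of_prime_card (α := T) rfl
      exact fun a b => mul_comm' a b
  rw [Nat.card_eq_fintype_card] at h4
  obtain ⟨e⟩ := Function.Embedding.nonempty_of_card_le (α := Fin 4) (β := T) (by simpa using h4)
  exact ⟨e, e.injective⟩

open Classical in
/-- A point of the power far from a given subgroup in the Hamming metric. -/
theorem code_lemma (hT : IsSimpleGroup T) (hnc : ¬ ∀ a b : T, a * b = b * a) (C : Subgroup (Fin k → T)) :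
    ∃ t : Fin k → T, ∀ h ∈ C, 3 * k ≤ 3 * cl C + 4 * (Finset.univ.filter (fun i => t i ≠ h i)).card := by
  let π : Fin k → (C →* T) := fun i => (Pi.evalMonoidHom _ i).comp C.subtype
  have hπ : ∀ i (c : C), π i c = (c : Fin k → T) i := fun i c => rfl
  let I : Finset (Fin k) := Finset.univ.filter (fun i => Function.Surjective (π i))
  let KK : Finset (Subgroup C) := I.image (fun i => (π i).ker)
  have hKK : KK.card ≤ cl C := by
    apply card_le_cl hT hnc
    intro K hK
    obtain ⟨i, hi, rfl⟩ := Finset.mem_image.mp hK
    exact ⟨π i, (Finset.mem_filter.mp hi).2, rfl⟩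
  -- the classes and their colourings
  let F : Subgroup C → Finset (Fin k) := fun K => I.filter (fun i => (π i).ker = K)
  choose col hcol using fun K => exists_balanced (F K)
  obtain ⟨τ, hτ⟩ := exists_four hnc
  -- representatives of four cosets
  have hrep : ∀ K : Subgroup C, ∃ b : Fin 4 → C, K ∈ KK → ∀ u v, u ≠ v → (b u)⁻¹ * b v ∉ K := by
    intro K
    by_cases hK : K ∈ KK
    · obtain ⟨i, hi, rfl⟩ := Finset.mem_image.mp hK
      have hs := (Finset.mem_filter.mp hi).2
      choose b hb using fun u => hs (τ u)
      refine ⟨b, fun _ u v huv h1 => ?_⟩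
      rw [MonoidHom.mem_ker, map_mul, map_inv, hb, hb, inv_mul_eq_one] at h1
      exact huv (hτ h1)
    · exact ⟨fun _ => 1, fun h => absurd h hK⟩
  choose b hb using hrep
  -- points outside the ranges
  have hout : ∀ i, ∃ x : T, i ∉ I → ∀ c : C, π i c ≠ x := by
    intro i
    by_cases hi : i ∈ I
    · exact ⟨1, fun h => absurd hi h⟩
    · have : ¬ Function.Surjective (π i) := fun h => hi (Finset.mem_filter.mpr ⟨Finset.mem_univ _, h⟩)
      unfold Function.Surjective at this
      push Not at this
      obtain ⟨x, hx⟩ := this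
      exact ⟨x, fun _ => hx⟩
  choose x hx using hout
  let t : Fin k → T := fun i => if i ∈ I then π i (b ((π i).ker) (col ((π i).ker) i)) else x i
  refine ⟨t, fun h hh => ?_⟩
  let h' : C := ⟨h, hh⟩
  -- the agreement set
  let Ag : Finset (Fin k) := Finset.univ.filter (fun i => t i = h i)
  have hAgI : Ag ⊆ I := by
    intro i hi
    by_contra hiI
    have h1 : t i = h i := (Finset.mem_filter.mp hi).2
    have h2 : t i = x i := by simp only [t, hiI, if_false]
    exact hx i hiI h' (by rw [hπ]; exact (h1.symm.trans h2))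
  have hcount : ∀ K ∈ KK, 4 * (Ag.filter (fun i => (π i).ker = K)).card ≤ (F K).card + 3 := by
    intro K hK
    by_cases hne : (Ag.filter (fun i => (π i).ker = K)).Nonempty
    · obtain ⟨i₀, hi₀⟩ := hne
      have hsub : Ag.filter (fun i => (π i).ker = K) ⊆ (F K).filter (fun i => col K i = col K i₀) := by
        have hcore : ∀ i ∈ Ag.filter (fun i => (π i).ker = K), (b K (col K i))⁻¹ * h' ∈ K := by
          intro i hi
          obtain ⟨hi1, hi2⟩ := Finset.mem_filter.mp hi
          have hiI := hAgI hi1
          have h1 : t i = h i := (Finset.mem_filter.mp hi1).2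
          have h2 : t i = π i (b K (col K i)) := by
            simp only [t, hiI, if_true, hi2]
          rw [← hi2, MonoidHom.mem_ker, map_mul, map_inv, hi2, ← h2, h1, hπ]
          exact inv_mul_cancel _
        intro i hi
        obtain ⟨hi1, hi2⟩ := Finset.mem_filter.mp hi
        refine Finset.mem_filter.mpr ⟨Finset.mem_filter.mpr ⟨hAgI hi1, hi2⟩, ?_⟩
        by_contra hne
        apply hb K hK _ _ hne
        have h3 := K.mul_mem (hcore i hi) (K.inv_mem (hcore i₀ hi₀))
        have h4 : (b K (col K i))⁻¹ * h' * ((b K (col K i₀))⁻¹ * h')⁻¹ = (b K (col K i))⁻¹ * b K (col K i₀) := by group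
        rwa [h4] at h3
      have h5 := Finset.card_le_card hsub
      have h6 := hcol K (col K i₀)
      omega
    · rw [Finset.not_nonempty_iff_eq_empty] at hne
      rw [hne, Finset.card_empty]
      omega
  have hAgcard : 4 * Ag.card ≤ I.card + 3 * KK.card := by
    have h1 : Ag.card = ∑ K ∈ KK, (Ag.filter (fun i => (π i).ker = K)).card := by
      apply Finset.card_eq_sum_card_fiberwise
      intro i hi
      exact Finset.mem_coe.mpr (Finset.mem_image_of_mem _ (hAgI (Finset.mem_coe.mp hi)))
    have h2 : I.card = ∑ K ∈ KK, (F K).card := by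
      apply Finset.card_eq_sum_card_fiberwise
      intro i hi
      exact Finset.mem_coe.mpr (Finset.mem_image_of_mem _ (Finset.mem_coe.mp hi))
    rw [h1, h2, Finset.mul_sum]
    have h3 : ∑ K ∈ KK, 4 * (Ag.filter (fun i => (π i).ker = K)).card ≤ ∑ K ∈ KK, ((F K).card + 3) :=
      Finset.sum_le_sum hcount
    have h4 : ∑ K ∈ KK, ((F K).card + 3) = ∑ K ∈ KK, (F K).card + 3 * KK.card := by
      rw [Finset.sum_add_distrib, Finset.sum_const, smul_eq_mul, mul_comm 3]
    have h5 : ∑ K ∈ KK, 3 * 1 = 3 * KK.card := by simp [mul_comm]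
    omega
  have hsplit : (Finset.univ.filter (fun i => t i ≠ h i)).card + Ag.card = k := by
    have := Finset.card_filter_add_card_filter_not (s := (Finset.univ : Finset (Fin k))) (fun i => t i = h i)
    simp only [Finset.card_univ, Fintype.card_fin] at this
    have h9 : Ag.card = (Finset.univ.filter (fun i => t i = h i)).card := rfl
    simp only [ne_eq]
    omega
  have hIcard : I.card ≤ k := by
    have := Finset.card_le_univ I
    simpa using this
  omega

end code

section aut

variable {T : Type*} [Group T] {k : ℕ}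

/-- An automorphism of a power of a non-abelian simple group sends each factor into a factor. -/
theorem factor_map (hT : IsSimpleGroup T) (hnc : ¬ ∀ a b : T, a * b = b * a) (φ : (Fin k → T) ≃* (Fin k → T)) (i : Fin k) :
    ∃ j : Fin k, ∀ x : T, ∀ m, m ≠ j → φ (Pi.mulSingle i x) m = 1 := by
  classical
  haveI := hT.toNontrivial
  obtain ⟨x₀, hx₀⟩ := exists_ne (1 : T)
  have hy : φ (Pi.mulSingle i x₀) ≠ 1 := by
    intro h
    have h1 := φ.injective (h.trans (map_one φ).symm)
    have h2 := congrFun h1 i
    simp only [Pi.mulSingle_eq_same, Pi.one_apply] at h2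
    exact hx₀ h2
  obtain ⟨j, hj⟩ : ∃ j, φ (Pi.mulSingle i x₀) j ≠ 1 := by
    by_contra hcon
    push Not at hcon
    exact hy (funext hcon)
  set y := φ (Pi.mulSingle i x₀) with hydef
  -- a noncommuting partner
  have hcen : ∃ s : T, y j * s ≠ s * y j := by
    by_contra hcon
    push Not at hcon
    have hZ : (Subgroup.center T) = ⊤ := by
      rcases hT.eq_bot_or_eq_top_of_normal (Subgroup.center T) inferInstance with h | h
      · exfalso
        apply hj
        have : y j ∈ Subgroup.center T := by
          rw [Subgroup.mem_center_iff]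
          exact fun g => (hcon g).symm
        rw [h, Subgroup.mem_bot] at this
        exact this
      · exact h
    apply hnc
    intro a b
    have : a ∈ Subgroup.center T := by
      rw [hZ]
      trivial
    exact ((Subgroup.mem_center_iff.mp this) b).symm
  obtain ⟨s, hs⟩ := hcen
  -- w = [y, single j s] is supported at j and lies in the image of the i-th factor
  let I₀ : Subgroup (Fin k → T) := (MonoidHom.mulSingle (fun _ => T) i).range
  have hnormal : (I₀.map φ.toMonoidHom).Normal := by
    have h1 : I₀.Normal := by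
      constructor
      rintro _ ⟨a, rfl⟩ g
      refine ⟨g i * a * (g i)⁻¹, ?_⟩
      funext m
      by_cases hm : m = i
      · subst hm
        simp
      · simp [Pi.mulSingle_eq_of_ne hm]
    exact h1.map _ φ.surjective
  let w : Fin k → T := y * (Pi.mulSingle j s) * y⁻¹ * (Pi.mulSingle j s)⁻¹
  have hwsup : ∀ m, m ≠ j → w m = 1 := by
    intro m hm
    simp [w, Pi.mulSingle_eq_of_ne hm]
  have hwj : w j ≠ 1 := by
    intro h
    simp only [w, Pi.mul_apply, Pi.inv_apply, Pi.mulSingle_eq_same] at h
    apply hs
    have h1 : y j * s * (y j)⁻¹ = s := mul_inv_eq_one.mp h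
    rwa [mul_inv_eq_iff_eq_mul] at h1
  have hwmem : w ∈ I₀.map φ.toMonoidHom := by
    have h1 : y ∈ I₀.map φ.toMonoidHom := ⟨Pi.mulSingle i x₀, ⟨x₀, rfl⟩, rfl⟩
    have h2 := hnormal.conj_mem _ ((I₀.map φ.toMonoidHom).inv_mem h1) (Pi.mulSingle j s)
    have h3 : w = y * ((Pi.mulSingle j s) * y⁻¹ * (Pi.mulSingle j s)⁻¹) := by
      simp only [w, mul_assoc]
    rw [h3]
    exact (I₀.map φ.toMonoidHom).mul_mem h1 h2
  obtain ⟨_, ⟨z, rfl⟩, hz⟩ := hwmem
  have hz1 : z ≠ 1 := by
    intro h
    subst h
    have h1 : w = 1 := by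
      rw [← hz]
      simp
    apply hwj
    rw [h1]
    rfl
  -- the subgroup of `T` mapped into the `j`-th factor
  let S : Subgroup T :=
    { carrier := {x | ∀ m, m ≠ j → φ (Pi.mulSingle i x) m = 1}
      one_mem' := by
        intro m _
        simp
      mul_mem' := by
        intro a b ha hb m hm
        rw [Pi.mulSingle_mul, map_mul, Pi.mul_apply, ha m hm, hb m hm, one_mul]
      inv_mem' := by
        intro a ha m hm
        rw [Pi.mulSingle_inv, map_inv, Pi.inv_apply, ha m hm, inv_one] }
  have hSn : S.Normal := by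
    constructor
    intro a ha g m hm
    have h1 : (Pi.mulSingle i (g * a * g⁻¹) : Fin k → T) = Pi.mulSingle i g * Pi.mulSingle i a * (Pi.mulSingle i g)⁻¹ := by
      rw [Pi.mulSingle_mul, Pi.mulSingle_mul, Pi.mulSingle_inv]
    rw [h1, map_mul, map_mul, map_inv, Pi.mul_apply, Pi.mul_apply, Pi.inv_apply, ha m hm, mul_one, mul_inv_cancel]
  have hSz : z ∈ S := by
    intro m hm
    have h1 : φ (Pi.mulSingle i z) = w := hz
    rw [h1]
    exact hwsup m hm
  have hStop : S = ⊤ := by
    rcases hT.eq_bot_or_eq_top_of_normal S hSn with h | h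
    · exfalso
      rw [h, Subgroup.mem_bot] at hSz
      exact hz1 hSz
    · exact h
  refine ⟨j, fun x => ?_⟩
  have : x ∈ S := by
    rw [hStop]
    trivial
  exact this

end aut

end Cfsg.Agent.Lib.ClassMax.CompLen
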