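import Mathlib

/-! The stabiliser of a partition of `Ω` given by the fibres of `f : Ω → Fin b`. -/

set_option autoImplicit false

namespace Cfsg.Agent.Lib.ClassMax

variable {Ω : Type*}

/-- The stabiliser of the partition into fibres of `f`. -/
def partStab {β : Type*} (f : Ω → β) : Subgroup (Equiv.Perm Ω) where
  carrier := {g | ∀ x y : Ω, f x = f y ↔ f (g x) = f (g y)}
  one_mem' := fun x y => by simp
  mul_mem' := by
    intro g h hg hh x y
    rw [hh x y, hg (h x) (h y)]
    rfl
  inv_mem' := by
    intro g hg x y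
    have h1 : ∀ z, g (g⁻¹ z) = z := fun z => by simp
    have := hg (g⁻¹ x) (g⁻¹ y)
    rw [h1, h1] at this
    exact this.symm

theorem mem_partStab {β : Type*} {f : Ω → β} {g : Equiv.Perm Ω} :
    g ∈ partStab f ↔ ∀ x y : Ω, f x = f y ↔ f (g x) = f (g y) := Iff.rfl

theorem closure_eq_partStab {β : Type*} (f : Ω → β) :
    Subgroup.closure {g : Equiv.Perm Ω | ∀ x y : Ω, f x = f y ↔ f (g x) = f (g y)} = partStab f :=
  Subgroup.closure_eq (partStab f)

theorem mem_partStab_of_comp {β : Type*} {f : Ω → β} {g : Equiv.Perm Ω} (σ : Equiv.Perm β)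
    (h : ∀ x, f (g x) = σ (f x)) : g ∈ partStab f := by
  intro x y
  rw [h, h, σ.injective.eq_iff]

theorem swap_mem_partStab {β : Type*} [DecidableEq Ω] {f : Ω → β} {x y : Ω} (h : f x = f y) :
    Equiv.swap x y ∈ partStab f := by
  apply mem_partStab_of_comp (Equiv.refl β)
  intro z
  simp only [Equiv.refl_apply]
  by_cases hx : z = x
  · rw [hx, Equiv.swap_apply_left, h]
  by_cases hy : z = y
  · rw [hy, Equiv.swap_apply_right, h]
  rw [Equiv.swap_apply_of_ne_of_ne hx hy]

/-- Labelling of `Ω` by pairs. -/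
theorem exists_equiv_prod {a b : ℕ} [Fintype Ω] [DecidableEq Ω] (f : Ω → Fin b)
    (hf : ∀ i : Fin b, Nat.card {x : Ω // f x = i} = a) :
    ∃ ε : Ω ≃ Fin b × Fin a, ∀ x, (ε x).1 = f x := by
  classical
  have e₁ : ∀ i : Fin b, {x : Ω // f x = i} ≃ Fin a := fun i => Finite.equivFinOfCardEq (hf i)
  let ε : Ω ≃ Fin b × Fin a :=
    (Equiv.sigmaFiberEquiv f).symm.trans
      ((Equiv.sigmaCongrRight e₁).trans (Equiv.sigmaEquivProd _ _))
  refine ⟨ε, fun x => ?_⟩
  rfl

/-- Lifting a permutation of the labels to `Ω`, acting as the identity on the blocks it fixes. -/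
theorem exists_lift_perm {a b : ℕ} [Fintype Ω] [DecidableEq Ω] (f : Ω → Fin b)
    (hf : ∀ i : Fin b, Nat.card {x : Ω // f x = i} = a) (σ : Equiv.Perm (Fin b)) :
    ∃ h : Equiv.Perm Ω, (∀ x, f (h x) = σ (f x)) ∧ ∀ x, σ (f x) = f x → h x = x := by
  classical
  obtain ⟨ε, hε⟩ := exists_equiv_prod f hf
  refine ⟨ε.trans ((Equiv.prodCongr σ (Equiv.refl _)).trans ε.symm), fun x => ?_, fun x hx => ?_⟩
  · simp only [Equiv.trans_apply]
    rw [← hε, Equiv.apply_symm_apply]
    simp [hε]
  · simp only [Equiv.trans_apply]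
    rw [Equiv.symm_apply_eq]
    apply Prod.ext
    · simp [hε, hx]
    · simp

theorem swap_mem_of_trans [DecidableEq Ω] (L : Subgroup (Equiv.Perm Ω)) {u v w : Ω}
    (h1 : u = v ∨ Equiv.swap u v ∈ L) (h2 : v = w ∨ Equiv.swap v w ∈ L) :
    u = w ∨ Equiv.swap u w ∈ L := by
  by_cases huv : u = v
  · subst huv; exact h2
  by_cases hvw : v = w
  · subst hvw; exact h1
  by_cases huw : u = w
  · exact Or.inl huw
  right
  have h1' := h1.resolve_left huv
  have h2' := h2.resolve_left hvw
  have : Equiv.swap v w * Equiv.swap u v * Equiv.swap v w = Equiv.swap w u :=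
    Equiv.swap_mul_swap_mul_swap huv huw
  rw [Equiv.swap_comm u w, ← this]
  exact L.mul_mem (L.mul_mem h2' h1') h2'

theorem swap_conj_mem [DecidableEq Ω] (L : Subgroup (Equiv.Perm Ω)) {u v : Ω} {l : Equiv.Perm Ω}
    (hl : l ∈ L) (h : Equiv.swap u v ∈ L) : Equiv.swap (l u) (l v) ∈ L := by
  have : l * Equiv.swap u v * l⁻¹ = Equiv.swap (l u) (l v) := by
    rw [Equiv.swap_apply_apply]
  rw [← this]
  exact L.mul_mem (L.mul_mem hl h) (L.inv_mem hl)

/-- Partition stabilisers are maximal: a subgroup properly containing one is everything. -/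
theorem partStab_isCoatom [Fintype Ω] [DecidableEq Ω] (a b : ℕ) (ha : 2 ≤ a) (hb : 2 ≤ b)
    (f : Ω → Fin b) (hf : ∀ i : Fin b, Nat.card {x : Ω // f x = i} = a) : IsCoatom (partStab f) := by
  classical
  -- two points in each fibre
  have hfib : ∀ i : Fin b, ∃ x y : Ω, x ≠ y ∧ f x = i ∧ f y = i := by
    intro i
    have h1 : 1 < Nat.card {x : Ω // f x = i} := by rw [hf]; omega
    have := Finite.one_lt_card_iff_nontrivial.mp h1
    obtain ⟨p, q, hpq⟩ := exists_pair_ne {x : Ω // f x = i}
    exact ⟨p, q, fun h => hpq (Subtype.ext h), p.2, q.2⟩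
  constructor
  · intro htop
    obtain ⟨x, x', hxx', hx, hx'⟩ := hfib ⟨0, by omega⟩
    obtain ⟨y, _, _, hy, _⟩ := hfib ⟨1, by omega⟩
    have h0 : f x ≠ f y := by
      rw [hx, hy]
      intro h
      simpa using congrArg Fin.val h
    have hmem : Equiv.swap x y ∈ partStab f := by rw [htop]; trivial
    have h1 := (hmem x x').mp (by rw [hx, hx'])
    have hyx' : x' ≠ y := fun h => h0 (by rw [hx, ← hx', h])
    rw [Equiv.swap_apply_left, Equiv.swap_apply_of_ne_of_ne hxx'.symm hyx'] at h1
    exact h0 (by rw [hx, ← hx', h1])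
  · intro L hL
    obtain ⟨hle, g, hgL, hgK⟩ := (SetLike.lt_iff_le_and_exists).mp hL
    have hsame : ∀ {u v : Ω}, f u = f v → u = v ∨ Equiv.swap u v ∈ L := fun h =>
      Or.inr (hle (swap_mem_partStab h))
    -- a cross transposition
    have hcross : ∃ x y : Ω, f x ≠ f y ∧ Equiv.swap x y ∈ L := by
      by_contra hcon
      push Not at hcon
      have hsw : ∀ u v, Equiv.swap u v ∈ L → f u = f v := by
        intro u v h
        by_contra hne
        exact hcon u v hne h
      apply hgK
      have hkey : ∀ l ∈ L, ∀ x y, f x = f y → f (l x) = f (l y) := by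
        intro l hl x y hxy
        exact hsw _ _ (swap_conj_mem L hl (hle (swap_mem_partStab hxy)))
      intro x y
      refine ⟨hkey g hgL x y, fun h => ?_⟩
      have := hkey g⁻¹ (L.inv_mem hgL) _ _ h
      simpa using this
    obtain ⟨x, y, hxy, hsw⟩ := hcross
    have hall : ∀ z, x = z ∨ Equiv.swap x z ∈ L := by
      intro z
      by_cases hzx : f z = f x
      · exact hsame hzx.symm
      by_cases hzy : f z = f y
      · exact swap_mem_of_trans L (Or.inr hsw) (hsame hzy.symm)
      obtain ⟨h, hh1, hh2⟩ := exists_lift_perm f hf (Equiv.swap (f y) (f z))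
      have hhL : h ∈ L := hle (mem_partStab_of_comp _ hh1)
      have hx : h x = x := hh2 x (Equiv.swap_apply_of_ne_of_ne hxy (Ne.symm hzx))
      have hy : f (h y) = f z := by rw [hh1, Equiv.swap_apply_left]
      have h1 : Equiv.swap x (h y) ∈ L := by
        have := swap_conj_mem L hhL hsw
        rwa [hx] at this
      exact swap_mem_of_trans L (Or.inr h1) (hsame hy)
    have hallsw : ∀ u v : Ω, u = v ∨ Equiv.swap u v ∈ L := by
      intro u v
      have hu : u = x ∨ Equiv.swap u x ∈ L := by
        rcases hall u with h | h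
        · exact Or.inl h.symm
        · rw [Equiv.swap_comm]; exact Or.inr h
      exact swap_mem_of_trans L hu (hall v)
    rw [eq_top_iff]
    intro g _
    clear hgL hgK
    induction g using Equiv.Perm.swap_induction_on with
    | one => exact L.one_mem
    | swap_mul f x y hne hf => exact L.mul_mem ((hallsw x y).resolve_left hne) (hf trivial)

/-- Coatoms of `subgroupOf`. -/
theorem isCoatom_subgroupOf_iff {G : Type*} [Group G] {H M : Subgroup G} (hHM : H ≤ M) :
    IsCoatom (H.subgroupOf M) ↔ H ≠ M ∧ ∀ X : Subgroup G, H ≤ X → X ≤ M → X = H ∨ X = M := by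
  constructor
  · intro h
    refine ⟨?_, fun X hHX hXM => ?_⟩
    · rintro rfl
      exact h.1 (Subgroup.subgroupOf_self H)
    · by_cases hXH : X = H
      · exact Or.inl hXH
      right
      have hlt : H.subgroupOf M < X.subgroupOf M := by
        refine lt_of_le_of_ne (fun x hx => hHX hx) ?_
        intro h'
        apply hXH
        apply le_antisymm _ hHX
        intro x hx
        have : (⟨x, hXM hx⟩ : M) ∈ X.subgroupOf M := hx
        rw [← h'] at this
        exact this
      have htop := h.2 _ hlt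
      apply le_antisymm hXM
      intro x hx
      have : (⟨x, hx⟩ : M) ∈ X.subgroupOf M := by rw [htop]; trivial
      exact this
  · rintro ⟨hne, h⟩
    constructor
    · intro htop
      apply hne
      apply le_antisymm hHM
      intro x hx
      have : (⟨x, hx⟩ : M) ∈ H.subgroupOf M := by rw [htop]; trivial
      exact this
    · intro b hb
      let L : Subgroup G := b.map M.subtype
      have hLM : L ≤ M := Subgroup.map_subtype_le b
      have hHL : H ≤ L := by
        intro x hx
        exact ⟨⟨x, hHM hx⟩, hb.le hx, rfl⟩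
      rcases h L hHL hLM with h1 | h1
      · exfalso
        apply hb.not_ge
        intro x hx
        have : (x : G) ∈ L := ⟨x, hx, rfl⟩
        rw [h1] at this
        exact this
      · rw [eq_top_iff]
        intro x _
        have : (x : G) ∈ L := by rw [h1]; exact x.2
        obtain ⟨y, hy, hyx⟩ := this
        have : y = x := Subtype.ext hyx
        exact this ▸ hy

end Cfsg.Agent.Lib.ClassMax
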